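import Groth.Agent.DualCx.GorNormal
import Groth.Agent.LocCoh.BaseChangeIso
import Groth.Agent.LocCoh.SupportDimVanish
import Groth.Agent.GrBass.Main
import Groth.Agent.CMCat.Basic
import Groth.Agent.S14412
import Groth.Agent.Gor.Ring
import Mathlib

/-!
# Local cohomology along a saturated specialisation in a quotient of a regular ring

If `A` is a quotient of a regular ring, `p ⋖ p'` are primes and `H^j` of `M_p` is nonzero, then
`H^{j+1}` of `M_{p'}` is nonzero (local duality and localisation of `Ext`).
-/

set_option autoImplicit false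
set_option linter.style.haveILetI false
universe u

open CategoryTheory IsLocalRing

attribute [local instance] HasDerivedCategory.standard

namespace Groth.Agent.DualShiftPrime

open DualCx

section Local

variable {A : Type u} [CommRing A] [LocCoh.IsGorensteinLocalRing A]

/-- Local duality as a vanishing criterion. -/
theorem subsingleton_H_iff_ext (M : Type u) [AddCommGroup M] [Module A M] [Module.Finite A M]
    {d : ℕ} (hd : ringKrullDim A = d) {j k : ℕ} (hjk : j + k = d) :
    Subsingleton (LocCoh.H (maximalIdeal A) j M) ↔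
      Subsingleton (Abelian.Ext.{u} (ModuleCat.of A M) (ModuleCat.of A A) k) := by
  obtain ⟨E', _, _, f, hf⟩ := InjHull.Basic.exists_isInjectiveHull (R := A) (ResidueField A)
  obtain ⟨e⟩ := LocalDuality.nonempty_H_equiv (GorNormal.isDualizing hd) (GorNormal.isNormalized hd) hf M j
  obtain ⟨e₂⟩ := GorNormal.nonempty_extEquiv (A := A) (d := d) M k
  rw [show (k : ℤ) - d = -(j : ℤ) by omega] at e₂
  constructor
  · intro h
    refine subsingleton_of_forall_eq 0 fun x => ?_
    by_contra hx
    obtain ⟨φ, hφ⟩ := InjHull.Matlis.exists_apply_ne_zero hf hx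
    have h0 : φ.comp e₂.symm.toLinearMap = 0 :=
      (e.symm.toEquiv.subsingleton).elim _ _
    refine hφ ?_
    have := LinearMap.congr_fun h0 (e₂ x)
    simpa using this
  · intro h
    have : Subsingleton (Dual.inD A M ⟶ ((Dual.inD A A)⟦(d : ℤ)⟧)⟦(-(j : ℤ))⟧) :=
      e₂.symm.toEquiv.subsingleton
    have : Subsingleton ((Dual.inD A M ⟶ ((Dual.inD A A)⟦(d : ℤ)⟧)⟦(-(j : ℤ))⟧) →ₗ[A] E') :=
      subsingleton_of_forall_eq 0 fun φ => LinearMap.ext fun x => by
        rw [Subsingleton.elim x 0, map_zero, map_zero]
    exact e.toEquiv.subsingleton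

end Local

section ExtLocal

variable (R : Type u) [CommRing R] [IsNoetherianRing R] (M : Type u) [AddCommGroup M] [Module R M]
  [Module.Finite R M]

/-- Vanishing of `Ext(M_P, R_P)`. -/
theorem subsingleton_ext_atPrime_iff (P : Ideal R) [P.IsPrime] (k : ℕ) :
    Subsingleton (Abelian.Ext.{u} (ModuleCat.of (Localization.AtPrime P) (LocalizedModule P.primeCompl M))
        (ModuleCat.of (Localization.AtPrime P) (Localization.AtPrime P)) k) ↔
      ∀ e : Abelian.Ext.{u} (ModuleCat.of R M) (ModuleCat.of R R) k, ∃ s : P.primeCompl, (s : R) • e = 0 := by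
  obtain ⟨iM⟩ := GrBass.exists_module_iso M P
  obtain ⟨iR⟩ := GrBass.exists_module_iso R P
  let iR' : ModuleCat.of (Localization.AtPrime P) (LocalizedModule P.primeCompl R) ≅
      ModuleCat.of (Localization.AtPrime P) (Localization.AtPrime P) :=
    ((IsLocalizedModule.iso P.primeCompl (Algebra.linearMap R (Localization.AtPrime P))).extendScalarsOfIsLocalization
      P.primeCompl (Localization.AtPrime P)).toModuleIso
  let ψ := GrBass.extIso iM (iR ≪≫ iR') k
  obtain ⟨h1, h2⟩ := S14412.result R P.primeCompl (ModuleCat.of R M) (ModuleCat.of R R) k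
  refine ψ.toEquiv.subsingleton_congr.symm.trans ?_
  constructor
  · intro h e
    apply (h2 e).mp
    exact Subsingleton.elim (h := h) _ _
  · intro h
    refine subsingleton_of_forall_eq 0 fun y => ?_
    obtain ⟨e, s, hes⟩ := h1 y
    rw [(h2 e).mpr (h e)] at hes
    exact (IsLocalization.map_units (Localization.AtPrime P) s).smul_eq_zero.mp hes

/-- The support of `Ext(M, R)` is stable under specialisation. -/
theorem subsingleton_ext_of_le {P P' : Ideal R} [P.IsPrime] [P'.IsPrime] (hle : P ≤ P') (k : ℕ)
    (h : Subsingleton (Abelian.Ext.{u} (ModuleCat.of (Localization.AtPrime P') (LocalizedModule P'.primeCompl M))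
        (ModuleCat.of (Localization.AtPrime P') (Localization.AtPrime P')) k)) :
    Subsingleton (Abelian.Ext.{u} (ModuleCat.of (Localization.AtPrime P) (LocalizedModule P.primeCompl M))
        (ModuleCat.of (Localization.AtPrime P) (Localization.AtPrime P)) k) := by
  refine (subsingleton_ext_atPrime_iff R M P k).mpr fun e => ?_
  obtain ⟨s, hs⟩ := (subsingleton_ext_atPrime_iff R M P' k).mp h e
  exact ⟨⟨(s : R), fun h' => s.2 (hle h')⟩, hs⟩

end ExtLocal

section Quotient

variable {R A : Type u} [CommRing R] [CommRing A] [Algebra R A]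
variable (M : Type u) [AddCommGroup M] [Module A M] [Module R M] [IsScalarTower R A M]

/-- Localisation of an `A`-module at a prime computed over `R`. -/
theorem isLocalizedModule_comap (hπ : Function.Surjective (algebraMap R A)) (p : Ideal A) [p.IsPrime] :
    IsLocalizedModule (p.comap (algebraMap R A)).primeCompl
      ((LocalizedModule.mkLinearMap p.primeCompl M).restrictScalars R) where
  map_units x := by
    have h := IsLocalizedModule.map_units (LocalizedModule.mkLinearMap p.primeCompl M)
      (⟨algebraMap R A x, x.2⟩ : p.primeCompl)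
    rw [Module.End.isUnit_iff] at h ⊢
    convert h using 1
    funext y
    exact (algebraMap_smul A (x : R) y).symm
  surj y := by
    obtain ⟨⟨m, s⟩, hs⟩ := IsLocalizedModule.surj p.primeCompl (LocalizedModule.mkLinearMap p.primeCompl M) y
    obtain ⟨r, hr⟩ := hπ s.1
    refine ⟨⟨m, ⟨r, fun h => s.2 (hr ▸ h)⟩⟩, ?_⟩
    show r • y = _
    exact ((algebraMap_smul A r y).symm.trans (congrArg (· • y) hr)).trans hs
  exists_of_eq {x₁ x₂} h := by
    obtain ⟨s, hs⟩ := IsLocalizedModule.exists_of_eq (S := p.primeCompl)
      (f := LocalizedModule.mkLinearMap p.primeCompl M) h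
    obtain ⟨r, hr⟩ := hπ s.1
    refine ⟨⟨r, fun h => s.2 (hr ▸ h)⟩, ?_⟩
    show r • x₁ = r • x₂
    exact ((algebraMap_smul A r x₁).symm.trans (congrArg (· • x₁) hr)).trans
      (hs.trans ((congrArg (· • x₂) hr).symm.trans (algebraMap_smul A r x₂)))

/-- The local cohomology of `M_p` can be computed over `R_P`. -/
theorem subsingleton_H_comap_iff [IsNoetherianRing R] [IsNoetherianRing A]
    (hπ : Function.Surjective (algebraMap R A)) (p : Ideal A) [p.IsPrime] (P : Ideal R) [P.IsPrime]
    (hP : P = p.comap (algebraMap R A)) (j : ℕ) :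
    Subsingleton (LocCoh.H (maximalIdeal (Localization.AtPrime p)) j (LocalizedModule p.primeCompl M)) ↔
      Subsingleton (LocCoh.H (maximalIdeal (Localization.AtPrime P)) j (LocalizedModule P.primeCompl M)) := by
  subst hP
  set P := p.comap (algebraMap R A)
  let φ : Localization.AtPrime P →+* Localization.AtPrime p :=
    Localization.localRingHom P p (algebraMap R A) rfl
  letI : Algebra (Localization.AtPrime P) (Localization.AtPrime p) := φ.toAlgebra
  have hφ : Function.Surjective φ := by
    intro y
    obtain ⟨a, s, rfl⟩ := IsLocalization.exists_mk'_eq p.primeCompl y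
    obtain ⟨r, hr⟩ := hπ a
    obtain ⟨t, ht⟩ := hπ s.1
    refine ⟨IsLocalization.mk' _ r (⟨t, fun h => s.2 (ht ▸ h)⟩ : P.primeCompl), ?_⟩
    rw [Localization.localRingHom_mk']
    simp only [hr, ht]
  have hmax : (maximalIdeal (Localization.AtPrime P)).map φ = maximalIdeal (Localization.AtPrime p) := by
    rw [← Localization.AtPrime.map_eq_maximalIdeal, ← Localization.AtPrime.map_eq_maximalIdeal, Ideal.map_map,
      show φ.comp (algebraMap R (Localization.AtPrime P)) =
        (algebraMap A (Localization.AtPrime p)).comp (algebraMap R A) from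
          RingHom.ext fun r => Localization.localRingHom_to_map P p _ rfl r,
      ← Ideal.map_map, Ideal.map_comap_of_surjective _ hπ]
  obtain ⟨ψ, -⟩ := LocCoh.BaseChangeIso.nonempty_H_restrict (B := Localization.AtPrime p)
    (maximalIdeal (Localization.AtPrime P)) j
    (ModuleCat.of (Localization.AtPrime p) (LocalizedModule p.primeCompl M))
  have hmax' : (maximalIdeal (Localization.AtPrime P)).map
      (algebraMap (Localization.AtPrime P) (Localization.AtPrime p)) = maximalIdeal (Localization.AtPrime p) := hmax
  rw [hmax'] at ψ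
  refine ψ.toEquiv.subsingleton_congr.trans ?_
  letI : Module (Localization.AtPrime P) (LocalizedModule p.primeCompl M) := Module.compHom _ φ
  have hsc : ∀ (r : R) (y : LocalizedModule p.primeCompl M),
      algebraMap R (Localization.AtPrime P) r • y = r • y := fun r y => by
    show φ (algebraMap R (Localization.AtPrime P) r) • y = r • y
    rw [show φ (algebraMap R (Localization.AtPrime P) r) = algebraMap A (Localization.AtPrime p) (algebraMap R A r)
      from Localization.localRingHom_to_map P p _ rfl r, algebraMap_smul, algebraMap_smul]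
  haveI : IsScalarTower R (Localization.AtPrime P) (LocalizedModule p.primeCompl M) :=
    ⟨fun r a y => by rw [Algebra.smul_def, mul_smul, hsc]⟩
  haveI := isLocalizedModule_comap M hπ p
  let e : LocalizedModule P.primeCompl M ≃ₗ[Localization.AtPrime P] LocalizedModule p.primeCompl M :=
    (IsLocalizedModule.iso P.primeCompl
      ((LocalizedModule.mkLinearMap p.primeCompl M).restrictScalars R)).extendScalarsOfIsLocalization
        P.primeCompl (Localization.AtPrime P)
  exact (LocCoh.HLinearEquiv (maximalIdeal (Localization.AtPrime P)) j e).toEquiv.subsingleton_congr.symm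

/-- One step up a saturated chain. -/
theorem not_subsingleton_H_succ [IsRegularRing R] [IsNoetherianRing A]
    (hπ : Function.Surjective (algebraMap R A)) [Module.Finite A M] {p p' : PrimeSpectrum A} (h : p ⋖ p')
    {j : ℕ} (hj : ¬ Subsingleton (LocCoh.H (maximalIdeal (Localization.AtPrime p.asIdeal)) j
      (LocalizedModule p.asIdeal.primeCompl M))) :
    ¬ Subsingleton (LocCoh.H (maximalIdeal (Localization.AtPrime p'.asIdeal)) (j + 1)
      (LocalizedModule p'.asIdeal.primeCompl M)) := by
  haveI : Module.Finite R A := Module.Finite.of_surjective (Algebra.linearMap R A) hπ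
  haveI : Module.Finite R M := Module.Finite.trans A M
  let P : PrimeSpectrum R := PrimeSpectrum.comap (algebraMap R A) p
  let P' : PrimeSpectrum R := PrimeSpectrum.comap (algebraMap R A) p'
  have hinj := PrimeSpectrum.comap_injective_of_surjective (algebraMap R A) hπ
  have hPP : P ⋖ P' := by
    refine ⟨lt_of_le_of_ne (Ideal.comap_mono h.1.le) fun e => h.1.ne (hinj e), fun Q hQ hQ' => ?_⟩
    obtain ⟨q, rfl⟩ : ∃ q, PrimeSpectrum.comap (algebraMap R A) q = Q := by
      have : Q ∈ Set.range (PrimeSpectrum.comap (algebraMap R A)) := by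
        rw [_root_.range_comap_of_surjective _ (algebraMap R A) hπ]
        exact fun x hx => hQ.le (show algebraMap R A x ∈ p.asIdeal by
          rw [RingHom.mem_ker.mp hx]; exact zero_mem _)
      exact this
    have hmono : ∀ {a b : PrimeSpectrum A}, PrimeSpectrum.comap (algebraMap R A) a <
        PrimeSpectrum.comap (algebraMap R A) b → a < b := fun {a b} hab => by
      refine lt_of_le_of_ne ?_ fun e => hab.ne (congrArg _ e)
      have := Ideal.map_mono (f := algebraMap R A) hab.le
      rwa [PrimeSpectrum.comap_asIdeal, PrimeSpectrum.comap_asIdeal, Ideal.map_comap_of_surjective _ hπ,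
        Ideal.map_comap_of_surjective _ hπ] at this
    exact h.2 (hmono hQ) (hmono hQ')
  haveI := (Gor.Ring.isGorensteinRing_of_isRegularRing R).isGorensteinLocalRing_localization P.asIdeal
  haveI := (Gor.Ring.isGorensteinRing_of_isRegularRing R).isGorensteinLocalRing_localization P'.asIdeal
  have hcm : LocCoh.IsCohenMacaulayModule (Localization.AtPrime P'.asIdeal)
      (LocalizedModule P'.asIdeal.primeCompl R) := by
    rw [Depth.isCohenMacaulayModule_congr (Depth.localizedModuleSelfEquiv P'.asIdeal.primeCompl)]
    exact (Depth.isCohenMacaulayLocalRing_iff (R := Localization.AtPrime P'.asIdeal)).mp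
      (Gor.Basic.isCohenMacaulay_of_gorenstein (A := Localization.AtPrime P'.asIdeal))
  have hsupp : Module.support R R = Set.univ := by
    refine Set.eq_univ_of_forall fun Q => ?_
    rw [Module.mem_support_iff_of_finite, Module.annihilator_eq_bot.2 inferInstance]
    exact bot_le
  have hht : P'.asIdeal.height = P.asIdeal.height + 1 := CMCat.height_covBy_of_cm (M := R) hPP hcm hsupp
  obtain ⟨d, hd⟩ := Gor.Basic.exists_natCast_ringKrullDim (A := Localization.AtPrime P.asIdeal)
  have hd' : ringKrullDim (Localization.AtPrime P'.asIdeal) = (d + 1 : ℕ) := by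
    rw [IsLocalization.AtPrime.ringKrullDim_eq_height P'.asIdeal, hht, WithBot.coe_add,
      ← IsLocalization.AtPrime.ringKrullDim_eq_height P.asIdeal (Localization.AtPrime P.asIdeal), hd]
    push_cast
    rfl
  rw [subsingleton_H_comap_iff M hπ p.asIdeal P.asIdeal rfl] at hj
  rw [subsingleton_H_comap_iff M hπ p'.asIdeal P'.asIdeal rfl]
  have hjd : j ≤ d := by
    by_contra hlt
    refine hj (LocCoh.SupportDimVanish.subsingleton_H_of_supportDim_lt' _ j _ ?_)
    refine (Module.supportDim_le_ringKrullDim _ _).trans_lt ?_
    rw [hd]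
    exact_mod_cast Nat.lt_of_not_le hlt
  obtain ⟨k, rfl⟩ := Nat.exists_eq_add_of_le hjd
  rw [subsingleton_H_iff_ext _ hd rfl] at hj
  rw [subsingleton_H_iff_ext _ hd' (by omega : j + 1 + k = j + k + 1)]
  exact fun h' => hj (subsingleton_ext_of_le R M hPP.1.le k h')

end Quotient

end Groth.Agent.DualShiftPrime
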